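import Groth.Agent.LeadBrown.Rel.Grade
import Groth.Agent.H3CAlg.EtaEtale
import Groth.Agent.H4Depth.IdealDepth
import Groth.Agent.H4DR.FlatBC.Finite
import Groth.Agent.H4DR.FlatBC.Dualizing
import Groth.Agent.H4DR.Dualizing.Gorenstein
import Groth.Agent.H4DR.Dualizing.FiniteMap
import Groth.Agent.H8Props.FibreDimSemicont

/-!
# The lower bound for the relative dualizing complex of a presented algebra
-/

set_option autoImplicit false
set_option linter.style.haveILetI false
set_option linter.unusedSectionVars false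
set_option backward.isDefEq.respectTransparency false
set_option maxHeartbeats 1000000

universe u

open CategoryTheory CategoryTheory.Limits AlgebraicGeometry TensorProduct
open Groth.Agent.H4DR.Ext (Ex preIso postIso exCongr evalEquiv)

attribute [local instance] HasDerivedCategory.standard

namespace Groth.Agent.LeadBrown.Aff

variable {R A : Type u} [CommRing R] [CommRing A] [IsNoetherianRing R] [IsNoetherianRing A] [Algebra R A]
  {n : ℕ} (ψ : MvPolynomial (Fin n) R →ₐ[R] A) (hψ : Function.Surjective ψ)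

theorem smoothOfRelativeDimension_mvPolynomial (R : Type u) [CommRing R] (n : ℕ) :
    SmoothOfRelativeDimension n (Spec.map (CommRingCat.ofHom (algebraMap R (MvPolynomial (Fin n) R)))) := by
  haveI := H3CAlg.EtaEtale.isStandardSmooth_mvPolynomial R n
  rw [HasRingHomProperty.Spec_iff (P := @SmoothOfRelativeDimension n)]
  exact RingHom.locally_of RingHom.isStandardSmoothOfRelativeDimension_respectsIso _
    ((RingHom.isStandardSmoothOfRelativeDimension_algebraMap n).2 inferInstance)

include hψ in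
theorem le_depth_localization (q : PrimeSpectrum A) (d : ℕ)
    (h : FlatMor.fibreDimAt (Spec.map (CommRingCat.ofHom (algebraMap R A))) q ≤ (d : WithBot ℕ∞)) :
    ((n - d : ℕ) : ℕ∞) ≤ LocCoh.depth (Localization.AtPrime (q.asIdeal.comap ψ.toRingHom))
      (Localization.AtPrime (q.asIdeal.comap ψ.toRingHom)) := by
  let i := Spec.map (CommRingCat.ofHom ψ.toRingHom)
  let g := Spec.map (CommRingCat.ofHom (algebraMap R (MvPolynomial (Fin n) R)))
  haveI : IsClosedImmersion i := IsClosedImmersion.spec_of_surjective _ hψ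
  haveI := smoothOfRelativeDimension_mvPolynomial R n
  have hw : i ≫ g = Spec.map (CommRingCat.ofHom (algebraMap R A)) := by
    rw [← Spec.map_comp, ← CommRingCat.ofHom_comp]
    congr 2
    exact ψ.comp_algebraMap
  have h1 := Rel.le_depth_stalk i g n d q (by rw [hw]; exact h)
  obtain ⟨e⟩ := H4DualSch.exists_stalk_ringEquiv (A := MvPolynomial (Fin n) R)
    (𝟙 (Spec (CommRingCat.of (MvPolynomial (Fin n) R)))) (PrimeSpectrum.comap ψ.toRingHom q)
  exact h1.trans_eq (Rel.depth_eq_of_ringEquiv e)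

include hψ in
/-- The grade of the ideal of `A` where the fibres have dimension at most `d`. -/
theorem le_idealDepth_away (g : MvPolynomial (Fin n) R) (d : ℕ)
    (h : ∀ q : PrimeSpectrum A, ψ g ∉ q.asIdeal →
      FlatMor.fibreDimAt (Spec.map (CommRingCat.ofHom (algebraMap R A))) q ≤ (d : WithBot ℕ∞)) :
    ((n - d : ℕ) : ℕ∞) ≤ LocCoh.idealDepth
      ((RingHom.ker ψ.toRingHom).map (algebraMap _ (Localization.Away g))) (Localization.Away g) := by
  let P := MvPolynomial (Fin n) R
  let L := Localization.Away g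
  let I' := (RingHom.ker ψ.toRingHom).map (algebraMap P L)
  haveI : IsNoetherianRing L := IsLocalization.isNoetherianRing (Submonoid.powers g) L inferInstance
  by_cases hI : I' • (⊤ : Submodule L L) = ⊤
  · rw [H4Depth.idealDepth_eq_top hI]; exact le_top
  obtain ⟨Q, hQ, hIQ, hd⟩ := H4Depth.exists_prime_depth_localization_eq I' L hI
  rw [← hd]
  let 𝔔 : Ideal P := Q.comap (algebraMap P L)
  have hk : RingHom.ker ψ.toRingHom ≤ 𝔔 := Ideal.map_le_iff_le_comap.1 hIQ
  obtain ⟨q, hq⟩ : (⟨𝔔, inferInstance⟩ : PrimeSpectrum P) ∈ Set.range (PrimeSpectrum.comap ψ.toRingHom) := by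
    rw [range_comap_of_surjective _ _ hψ]
    exact hk
  have hq' : q.asIdeal.comap ψ.toRingHom = 𝔔 := congrArg PrimeSpectrum.asIdeal hq
  have hgq : ψ g ∉ q.asIdeal := fun hm => hQ.ne_top (Ideal.eq_top_of_isUnit_mem Q
    (show algebraMap P L g ∈ Q from (show g ∈ 𝔔 by rw [← hq']; exact hm))
    (IsLocalization.Away.algebraMap_isUnit g))
  have h1 := le_depth_localization ψ hψ q d (h q hgq)
  let e : Localization.AtPrime (q.asIdeal.comap ψ.toRingHom) ≃+* Localization.AtPrime Q :=
    (IsLocalization.ringEquivOfRingEquiv (M := (q.asIdeal.comap ψ.toRingHom).primeCompl)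
      (T := 𝔔.primeCompl) (Localization.AtPrime (q.asIdeal.comap ψ.toRingHom)) (Localization.AtPrime 𝔔)
      (RingEquiv.refl P) (Submonoid.ext fun x => ⟨fun ⟨y, hy, hyx⟩ => hyx ▸ (hq' ▸ hy : y ∉ 𝔔), fun hx => ⟨x, (hq'.symm ▸ hx : x ∉ q.asIdeal.comap ψ.toRingHom), rfl⟩⟩)).trans
      (IsLocalization.localizationLocalizationAtPrimeIsoLocalization (Submonoid.powers g) Q).toRingEquiv
  refine (h1.trans_eq (Rel.depth_eq_of_ringEquiv e).symm).trans_eq ?_
  exact H4Depth.depth_congr ((IsLocalizedModule.linearEquiv Q.primeCompl (Algebra.linearMap L (Localization.AtPrime Q))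
    (LocalizedModule.mkLinearMap Q.primeCompl L)).extendScalarsOfIsLocalization Q.primeCompl (Localization.AtPrime Q))

/-- `Ext` of `A` into the polynomial ring vanishes below the grade, after inverting `g`. -/
theorem exists_pow_smul_eq_zero {P : Type u} [CommRing P] [IsNoetherianRing P] {I : Ideal P} (M : Type u)
    [AddCommGroup M] [Module P M] [Module.Finite P M] (hM : ∀ a ∈ I, ∀ x : M, a • x = 0) (g : P) (j : ℤ)
    (hj : ∀ k : ℕ, (k : ℤ) = j → (k : ℕ∞) < LocCoh.idealDepth (I.map (algebraMap P (Localization.Away g))) (Localization.Away g))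
    (x : Ex (Dual.inD P M) (Dual.inD P P) j) : ∃ k : ℕ, g ^ k • x = 0 := by
  let L := Localization.Away g
  haveI : Module.Flat P L := IsLocalization.flat _ (Submonoid.powers g)
  haveI : IsNoetherianRing L := IsLocalization.isNoetherianRing (Submonoid.powers g) L inferInstance
  have hB : H4DR.FlatBC.Bij L (Dual.inD P M) ((Dual.inD P P)⟦j⟧) :=
    H4DR.FlatBC.bij_module_of_bounded (a := -j) (fun i hi =>
      H4DR.FlatBC.subsingleton_HD_shift (c := 0)
        (fun l hl => H4DR.PCoh.subsingleton_HD_inD (ModuleCat.of P P) l hl.ne) j i (by omega)) M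
  let eM : (H4DR.FlatBC.FD P L).obj (Dual.inD P M) ≅ Dual.inD L (L ⊗[P] M) :=
    ((H4DR.FlatBC.F P L).mapDerivedCategorySingleFunctor 0).app (ModuleCat.of P M) ≪≫
      (DerivedCategory.singleFunctor (ModuleCat.{u} L) 0).mapIso
        (H4DR.FlatBC.toFₗ L (ModuleCat.of P M)).symm.toModuleIso
  let eP : (H4DR.FlatBC.FD P L).obj (Dual.inD P P) ≅ Dual.inD L L :=
    ((H4DR.FlatBC.F P L).mapDerivedCategorySingleFunctor 0).app (ModuleCat.of P P) ≪≫
      (DerivedCategory.singleFunctor (ModuleCat.{u} L) 0).mapIso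
        ((H4DR.FlatBC.toFₗ L (ModuleCat.of P P)).symm.trans (TensorProduct.AlgebraTensorModule.rid P L L)).toModuleIso
  have hz : Subsingleton (Ex (Dual.inD L (L ⊗[P] M)) (Dual.inD L L) j) := by
    rcases lt_or_ge j 0 with hneg | hpos
    · exact H4DR.Dualizing.subsingleton_ex_neg _ _ hneg
    obtain ⟨k, rfl⟩ := Int.eq_ofNat_of_zero_le hpos
    refine (H4DR.Dualizing.subsingleton_ex_iff_ext _ _ k).2
      (H4Depth.subsingleton_ext_of_lt_idealDepth (ModuleCat.of L (L ⊗[P] M)) ?_ k (hj k rfl))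
    rw [Module.support_eq_zeroLocus]
    refine PrimeSpectrum.zeroLocus_anti_mono (Ideal.map_le_iff_le_comap.2 fun a ha => ?_)
    refine Module.mem_annihilator.2 fun t => ?_
    rw [algebraMap_smul]
    induction t using TensorProduct.induction_on with
    | zero => simp
    | add u v hu hv => rw [smul_add, hu, hv, add_zero]
    | tmul l m => rw [← TensorProduct.tmul_smul, hM a ha, TensorProduct.tmul_zero]
  haveI : Subsingleton (Ex ((H4DR.FlatBC.FD P L).obj (Dual.inD P M)) ((H4DR.FlatBC.FD P L).obj (Dual.inD P P)) j) :=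
    ((preIso eM _).symm.trans (postIso _ ((shiftFunctor _ j).mapIso eP))).toEquiv.subsingleton
  haveI := (H4DR.FlatBC.exBC (B := L) hB).toEquiv.subsingleton
  haveI hl : IsLocalizedModule (Submonoid.powers g) (TensorProduct.mk P L (Ex (Dual.inD P M) (Dual.inD P P) j) 1) :=
    (isLocalizedModule_iff_isBaseChange (Submonoid.powers g) L _).2 (TensorProduct.isBaseChange _ _ _)
  obtain ⟨⟨_, k, rfl⟩, hk⟩ := (IsLocalizedModule.eq_zero_iff (Submonoid.powers g) (TensorProduct.mk P L _ 1)).1
    (Subsingleton.elim (TensorProduct.mk P L _ 1 x) 0)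
  exact ⟨k, hk⟩

variable [DRing.HasLBaseChange (algebraMap R (MvPolynomial (Fin n) R))]
  {Rψ : Dual.D (MvPolynomial (Fin n) R) ⥤ Dual.D A} (adj : DRing.restrictD ψ.toRingHom ⊣ Rψ)

/-- The base change of `R` to the polynomial ring. -/
noncomputable def lbaseUnit :
    (DRing.LBaseChange (algebraMap R (MvPolynomial (Fin n) R))).obj (Dual.inD R R) ≅
      Dual.inD (MvPolynomial (Fin n) R) (MvPolynomial (Fin n) R) :=
  H4DR.FlatBC.lbaseIso _ ≪≫
    ((H4DR.FlatBC.F R (MvPolynomial (Fin n) R)).mapDerivedCategorySingleFunctor 0).app (ModuleCat.of R R) ≪≫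
      (DerivedCategory.singleFunctor _ 0).mapIso
        ((H4DR.FlatBC.toFₗ _ (ModuleCat.of R R)).symm.trans (TensorProduct.AlgebraTensorModule.rid R _ _)).toModuleIso

include adj in
/-- The cohomology of `φ^! R` is `Ext` into the polynomial ring. -/
theorem exists_equiv_ext (i : ℤ) :
    letI := Module.compHom A ψ.toRingHom
    ∃ e : Dual.HD A (Dual2.shriekVia n Rψ (Dual.inD R R)) i ≃
        Ex (Dual.inD (MvPolynomial (Fin n) R) A) (Dual.inD _ (MvPolynomial (Fin n) R)) (n + i),
      ∀ (a : MvPolynomial (Fin n) R) (x), e (ψ a • x) = a • e x ∧ e 0 = 0 := by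
  letI := Module.compHom A ψ.toRingHom
  let P := MvPolynomial (Fin n) R
  let r : (DRing.restrictD ψ.toRingHom).obj (Dual.inD A A) ≅ Dual.inD P A :=
    ((H26Dual2.reF ψ.toRingHom).mapDerivedCategorySingleFunctor 0).app (ModuleCat.of A A)
  let X := Rψ.obj ((DRing.LBaseChange (algebraMap R P)).obj (Dual.inD R R))
  let e₁ : Dual.HD A (Dual2.shriekVia n Rψ (Dual.inD R R)) i ≃ₗ[A] Dual.HD A X (n + i) :=
    H4DR.PCoh.hShift X n i (n + i) rfl
  let e₂ : Ex (Dual.inD P A) ((DRing.LBaseChange (algebraMap R P)).obj (Dual.inD R R)) ((n : ℤ) + i) ≃ₗ[P]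
      Ex (Dual.inD P A) (Dual.inD P P) ((n : ℤ) + i) := postIso _ ((shiftFunctor _ ((n : ℤ) + i)).mapIso lbaseUnit)
  refine ⟨(e₁.trans (evalEquiv X (n + i)).symm).toEquiv.trans ((H4DR.Dualizing.exAdj adj _ _ _).trans
    (((preIso r.symm _).trans e₂).toEquiv)), fun a x => ⟨?_, ?_⟩⟩
  · show e₂ (preIso r.symm _ (H4DR.Dualizing.exAdj adj _ _ _ ((evalEquiv X (n + i)).symm (e₁ (ψ.toRingHom a • x))))) =
      a • e₂ (preIso r.symm _ (H4DR.Dualizing.exAdj adj _ _ _ ((evalEquiv X (n + i)).symm (e₁ x))))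
    rw [map_smul, map_smul, H4DR.Dualizing.exAdj_smul, map_smul, map_smul]
  · show e₂ (preIso r.symm _ (H4DR.Dualizing.exAdj adj _ _ _ ((evalEquiv X (n + i)).symm (e₁ 0)))) = 0
    rw [map_zero, map_zero, H4DR.Dualizing.exAdj_zero, map_zero, map_zero]

include hψ adj in
theorem neg_le_of_nontrivial (q : PrimeSpectrum A) (d : ℕ)
    (hd : FlatMor.fibreDimAt (Spec.map (CommRingCat.ofHom (algebraMap R A))) q ≤ (d : WithBot ℕ∞)) (i : ℤ)
    (h : Nontrivial (LocalizedModule q.asIdeal.primeCompl (Dual.HD A (Dual2.shriekVia n Rψ (Dual.inD R R)) i))) :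
    -(d : ℤ) ≤ i := by
  by_contra hlt
  haveI : Algebra.FiniteType R A := Algebra.FiniteType.of_surjective ψ hψ
  haveI : LocallyOfFiniteType (Spec.map (CommRingCat.ofHom (algebraMap R A))) :=
    (HasRingHomProperty.Spec_iff (P := @LocallyOfFiniteType)).2 (RingHom.finiteType_algebraMap.2 ‹_›)
  obtain ⟨_, ⟨f, rfl⟩, hqf, hsub⟩ := PrimeSpectrum.isTopologicalBasis_basic_opens.exists_subset_of_mem_open
    (show q ∈ {x : PrimeSpectrum A | FlatMor.fibreDimAt (Spec.map (CommRingCat.ofHom (algebraMap R A))) x ≤ d} from hd)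
    (H8Props.FieldDim.isOpen_fibreDimAt_le (Spec.map (CommRingCat.ofHom (algebraMap R A))) d)
  obtain ⟨g, rfl⟩ := hψ f
  have hdep := le_idealDepth_away ψ hψ g d fun q' hq' => hsub hq'
  letI := Module.compHom A ψ.toRingHom
  haveI : Module.Finite (MvPolynomial (Fin n) R) A :=
    Module.Finite.of_surjective (LinearMap.toSpanSingleton (MvPolynomial (Fin n) R) A 1)
      fun a => (hψ a).imp fun p hp => (mul_one (ψ p)).trans hp
  refine (fun hs : Subsingleton (LocalizedModule q.asIdeal.primeCompl _) => @not_subsingleton _ h hs) ?_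
  refine LocalizedModule.subsingleton_iff.2 fun x => ?_
  obtain ⟨e, he⟩ := exists_equiv_ext ψ adj i
  obtain ⟨k, hk⟩ := exists_pow_smul_eq_zero A (I := RingHom.ker ψ.toRingHom)
    (fun a ha y => show ψ.toRingHom a • y = 0 by rw [RingHom.mem_ker.1 ha, zero_smul]) g (n + i)
    (fun k hk => lt_of_lt_of_le (by exact_mod_cast (by omega : k < n - d)) hdep) (e x)
  exact ⟨ψ g ^ k, fun hm => hqf (q.isPrime.mem_of_pow_mem k hm), e.injective (by
    rw [← map_pow, (he _ _).1, hk, (he 0 x).2])⟩

end Groth.Agent.LeadBrown.Aff
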