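import Groth.Agent.LeadBrown.Aff.Bridge
import Groth.Agent.LeadBrown.Rel.FibreDual
import Groth.Agent.H13AlgSp.FibreDim
import Groth.Agent.H4DualSch.Basic

/-!
# Points of the affine model
-/

set_option autoImplicit false
set_option linter.style.haveILetI false
set_option linter.unusedSectionVars false
set_option backward.isDefEq.respectTransparency false

universe u

open CategoryTheory CategoryTheory.Limits AlgebraicGeometry
open Groth.Agent.H16Derived.KFlat.Stalk (rd homologyRdIso hdTilde)

attribute [local instance] HasDerivedCategory.standard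

namespace Groth.Agent.LeadBrown.Aff

variable {R A : Type u} [CommRing R] [CommRing A] [Algebra R A]

theorem isSepFT_id (S : Scheme.{u}) : Dual3.IsSepFT (𝟙 S) := ⟨inferInstance, inferInstance, inferInstance⟩

theorem isSepFT_specMor [Algebra.FiniteType R A] : Dual3.IsSepFT (specMor R A) := by
  haveI : LocallyOfFiniteType (specMor R A) :=
    (HasRingHomProperty.Spec_iff (P := @LocallyOfFiniteType)).2 (RingHom.finiteType_algebraMap.2 ‹_›)
  exact ⟨inferInstance, inferInstance, inferInstance⟩

theorem flat_specMor [Module.Flat R A] : Flat (specMor R A) :=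
  Flat.SpecMap_iff.2 (RingHom.flat_algebraMap_iff.2 ‹_›)

theorem nontrivial_localized_iff [∀ (S : CommRingCat.{u}), PreservesFiniteLimits (tilde.functor S)]
    [∀ (U V : Scheme.{u}) (j : U ⟶ V) [IsOpenImmersion j], PreservesFiniteLimits (Scheme.Modules.restrictFunctor j)]
    {X : Scheme.{u}} (j : Spec (CommRingCat.of A) ⟶ X) [IsOpenImmersion j] {ω : Dual.D A} {K : DCoh.D X}
    (e : (DCoh.tildeD (CommRingCat.of A)).obj ω ≅ (rd j).obj K) (q : PrimeSpectrum A) (i : ℤ) :
    Nontrivial (LocalizedModule q.asIdeal.primeCompl (Dual.HD A ω i)) ↔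
      Nontrivial ((DCoh.HD ((rd j).obj K) i).presheaf.stalk (show (Spec (CommRingCat.of A) : Scheme.{u}) from q)) := by
  rw [H4DualSch.nontrivial_stalk_congr ((DerivedCategory.homologyFunctor _ i).mapIso e.symm ≪≫ hdTilde ω i),
    ← Module.mem_support_iff]
  exact (H4DualSch.nontrivial_stalk_tilde_iff (CommRingCat.of A)
    ((DerivedCategory.homologyFunctor (ModuleCat.{u} A) i).obj ω) q).symm

theorem fibreDimLE_of_forall {X S : Scheme.{u}} (f : X ⟶ S) (d : ℕ)
    (h : ∀ x : X, FlatMor.fibreDimAt f x ≤ (d : WithBot ℕ∞)) : Dual3.FibreDimLE f d := fun s => by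
  refine (H13AlgSp.FibreDim.dim_le_iff_localDim _).2 fun z => ?_
  have h1 : (f.fiberι s).base z ∈ Set.range (f.fiberι s).base := ⟨z, rfl⟩
  rw [Scheme.Hom.range_fiberι] at h1
  have key : ∀ (x : X) (s : S) (_ : f x = s) (z : f.fiber s), (f.fiberι s).base z = x →
      FlatMor.localDim (f.fiber s) z ≤ (d : WithBot ℕ∞) := by
    intro x s hs z hz
    subst hs
    have e : z = f.asFiber x := (f.fiberι (f x)).isEmbedding.injective
      (hz.trans (Scheme.Hom.fiberι_asFiber f x).symm)
    subst e
    exact h x
  exact key _ s h1 z rfl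

end Groth.Agent.LeadBrown.Aff
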