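import Groth.Agent.H02CA.Euler.Chart
import Groth.Agent.H11Tilde.TwistInv
import Groth.Agent.H11Tilde.Gen
import Groth.Agent.H11Proj.ProjSpace
import Groth.Agent.H10Coh.SerreVanishing2

/-!
# Affine space inside projective space
-/

set_option autoImplicit false
set_option linter.style.haveILetI false
set_option backward.isDefEq.respectTransparency false
set_option maxHeartbeats 1000000

universe u

open CategoryTheory CategoryTheory.Limits AlgebraicGeometry TopologicalSpace Opposite MvPolynomial
open Groth.Agent.H11Tilde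

namespace Groth.Agent.LeadBrown.Aff

variable (n : ℕ) (R : Type u) [CommRing R]

/-- The twists are trivial on the first chart. -/
theorem nonempty_twist_restrict_iso (d : ℕ) :
    Nonempty ((Twist.twistProjSpace n R (-(d : ℤ))).restrict (H02CA.Euler.chart (n := n) (R := R) 0).ι ≅
      Coh.structureModule ↑(H02CA.Euler.chart (n := n) (R := R) 0)) := by
  let V := H02CA.Euler.chart (n := n) (R := R) 0
  let G := CohB1.polyGrading n R
  have hd : (X 0 : MvPolynomial (Fin (n + 1)) R) ^ d ∈ G d :=
    isHomogeneous_X_pow (R := R) (0 : Fin (n + 1)) d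
  refine nonempty_iso_structureModule (Twist.twistProjSpace n R (-(d : ℤ))) V
    (secOf G G (SetLike.one_mem_graded G) hd (V := V) (fun x hx => pow_notMem G hx d) (by simp)) fun W hW => ?_
  exact bijective_smul_gen G (p := 0) (q := d) (a := 1) (b := X 0 ^ d) (SetLike.one_mem_graded G) hd
    (fun x _ h => x.isPrime.ne_top ((Ideal.eq_top_iff_one _).2 h))
    (fun x hx => pow_notMem G (hW hx) d) (by simp) _ fun x => rfl

/-- Affine space is the first chart. -/
theorem exists_affineSpace : ∃ c : Spec (CommRingCat.of (MvPolynomial (Fin n) R)) ⟶ CohB1.ProjSpace n R,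
    IsOpenImmersion c ∧ c ≫ CohB1.ProjSpace.toSpec n R =
        Spec.map (CommRingCat.ofHom (algebraMap R (MvPolynomial (Fin n) R))) ∧
      Set.range c.base = (Proj.basicOpen (CohB1.polyGrading n R) (MvPolynomial.X 0) : (CohB1.ProjSpace n R).Opens).carrier := by
  let e : MvPolynomial {j : Fin (n + 1) // j ≠ 0} R ≃+* _ :=
    RingEquiv.ofBijective _ (H11Proj.ProjSpace.chartMap_bijective n R 0)
  let ρ := MvPolynomial.renameEquiv R (finSuccAboveEquiv (0 : Fin (n + 1)))
  let t := ρ.toRingEquiv.trans e
  let ι : Spec (CommRingCat.of (HomogeneousLocalization.Away (CohB1.polyGrading n R) (MvPolynomial.X 0))) ⟶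
      CohB1.ProjSpace n R :=
    Proj.awayι (CohB1.polyGrading n R) (MvPolynomial.X 0) (H11Proj.ProjSpace.X_mem n R 0) one_pos
  haveI : IsOpenImmersion ι :=
    inferInstanceAs (IsOpenImmersion
      (Proj.awayι (CohB1.polyGrading n R) (MvPolynomial.X 0) (H11Proj.ProjSpace.X_mem n R 0) one_pos))
  have hι : ι ≫ CohB1.ProjSpace.toSpec n R =
      Spec.map (CommRingCat.ofHom ((H11Proj.ProjSpace.chartMap n R 0).comp MvPolynomial.C)) :=
    H11Proj.ProjSpace.awayι_toSpec n R 0
  haveI : IsIso (CommRingCat.ofHom t.symm.toRingHom) := (t.symm.toCommRingCatIso).isIso_hom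
  refine ⟨Spec.map (CommRingCat.ofHom t.symm.toRingHom) ≫ ι, inferInstance, ?_, ?_⟩
  · rw [Category.assoc, hι, ← Spec.map_comp]
    refine congrArg Spec.map (CommRingCat.hom_ext (RingHom.ext fun r => ?_))
    show t.symm (H11Proj.ProjSpace.chartMap n R 0 (MvPolynomial.C r)) = algebraMap R _ r
    rw [RingEquiv.symm_apply_eq, MvPolynomial.algebraMap_eq]
    show _ = e (ρ (MvPolynomial.C r))
    rw [show ρ (MvPolynomial.C r) = MvPolynomial.C r from ρ.commutes r]
    rfl
  · have h := Proj.opensRange_awayι (CohB1.polyGrading n R) (MvPolynomial.X 0) (H11Proj.ProjSpace.X_mem n R 0) one_pos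
    refine Eq.trans ?_ (congrArg (fun V : (CohB1.ProjSpace n R).Opens => (V : Set (CohB1.ProjSpace n R))) h)
    refine Set.Subset.antisymm (Set.range_subset_iff.2 fun z => ⟨_, rfl⟩) ?_
    rintro _ ⟨z, rfl⟩
    exact ⟨(inv (Spec.map (CommRingCat.ofHom t.symm.toRingHom))).base z,
      congr($(IsIso.inv_hom_id_assoc (Spec.map (CommRingCat.ofHom t.symm.toRingHom)) ι).base z)⟩

end Groth.Agent.LeadBrown.Aff
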