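import Groth.Agent.H16Derived.QCohD.Lpull
import Groth.Agent.H16Derived.QCohD.Equiv
import Groth.Agent.H16Derived.KFlat.PushPull
import Groth.Agent.H16Derived.QCohD.RpushUnb
import Groth.Agent.S12898
import Groth.Prelude.Def_Dual3

/-!
# The right adjoint of `R(Spec φ)_*` is the right adjoint of restriction of scalars
-/

set_option autoImplicit false
set_option linter.style.haveILetI false
set_option linter.unusedSectionVars false
set_option backward.isDefEq.respectTransparency false
set_option maxHeartbeats 1000000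

universe u

open CategoryTheory CategoryTheory.Limits AlgebraicGeometry
open Groth.Agent.H16Derived
open Groth.Agent.H16Derived.KFlat.Stalk (hasLpull lpullRpushAdj)

attribute [local instance] HasDerivedCategory.standard

namespace Groth.Agent.LeadBrown.Aff

/-- Tilde into the complexes with quasi-coherent cohomology. -/
noncomputable def tQ (A : Type u) [CommRing A] : Dual.D A ⥤ DCoh.DQCoh (Spec (CommRingCat.of A)) :=
  ObjectProperty.lift DCoh.IsQCohD (DCoh.tildeD (CommRingCat.of A))
    fun M => QCohD.isQCohD_tildeD (CommRingCat.of A) M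

instance tQ_isEquivalence (A : Type u) [CommRing A] : (tQ A).IsEquivalence := by
  haveI hfull := (QCohD.full_faithful (CommRingCat.of A)).1
  haveI hfaith := (QCohD.full_faithful (CommRingCat.of A)).2
  haveI : (tQ A).Faithful := ⟨fun {M N f g} h =>
    (DCoh.tildeD (CommRingCat.of A)).map_injective (congrArg (fun t => t.hom) h)⟩
  haveI : (tQ A).Full := ⟨fun {M N} g =>
    ⟨(DCoh.tildeD (CommRingCat.of A)).preimage g.hom,
      ObjectProperty.hom_ext _ ((DCoh.tildeD (CommRingCat.of A)).map_preimage g.hom)⟩⟩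
  haveI : (tQ A).EssSurj := ⟨fun K => by
    obtain ⟨M, ⟨e⟩⟩ := QCohD.exists_tildeD_iso (R := CommRingCat.of A) K.property
    exact ⟨M, ⟨(ObjectProperty.ι _).preimageIso e⟩⟩⟩
  exact { }

variable {P A : Type u} [CommRing P] [CommRing A] (φ : P →+* A)
  [DCoh.HasRpush (Spec.map (CommRingCat.ofHom φ))] (hq : DCoh.RpushPreservesQCoh (Spec.map (CommRingCat.ofHom φ)))

/-- The direct image through tilde. -/
noncomputable def pushRing : Dual.D A ⥤ Dual.D P :=
  tQ A ⋙ DCoh.RpushQ (Spec.map (CommRingCat.ofHom φ)) hq ⋙ (tQ P).asEquivalence.inverse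

theorem nonempty_pushRing_iso : Nonempty (pushRing φ hq ≅ DRing.restrictD φ) := by
  haveI := H4DR.TorAmp.hasLBaseChange φ
  let f := Spec.map (CommRingCat.ofHom φ)
  haveI := hasLpull f
  have hL : Dual3.LpullPreservesQCoh f := fun K hK => QCohD.isQCohD_lpull f hK
  obtain ⟨adjL⟩ := S12898.result φ
  let qP : ObjectProperty (DCoh.D (Spec (CommRingCat.of P))) := DCoh.IsQCohD
  let qA : ObjectProperty (DCoh.D (Spec (CommRingCat.of A))) := DCoh.IsQCohD
  let adjQ : Dual3.LpullQ f hL ⊣ DCoh.RpushQ f hq :=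
    (lpullRpushAdj f).restrictFullyFaithful qP.fullyFaithfulι qA.fullyFaithfulι (Iso.refl _) (Iso.refl _)
  let adj' := ((tQ P).asEquivalence.toAdjunction.comp adjQ).comp (tQ A).asEquivalence.symm.toAdjunction
  let s : tQ P ⋙ Dual3.LpullQ f hL ≅ DRing.LBaseChange φ ⋙ tQ A :=
    Functor.FullyFaithful.whiskeringRight qA.fullyFaithfulι _ |>.preimageIso (QCohD.lpullTildeIso φ).symm
  let e : ((tQ P).asEquivalence.functor ⋙ Dual3.LpullQ f hL) ⋙ (tQ A).asEquivalence.symm.functor ≅
      DRing.LBaseChange φ :=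
    Functor.isoWhiskerRight s (tQ A).asEquivalence.inverse ≪≫ Functor.associator _ _ _ ≪≫
      Functor.isoWhiskerLeft (DRing.LBaseChange φ) (tQ A).asEquivalence.unitIso.symm ≪≫ Functor.rightUnitor _
  exact ⟨((adjL.ofNatIsoLeft e.symm).rightAdjointUniq adj').symm⟩

/-- The right adjoint of the direct image, on tildes. -/
theorem nonempty_rightAdjoint_tilde {b : DCoh.DQCoh (Spec (CommRingCat.of P)) ⥤ DCoh.DQCoh (Spec (CommRingCat.of A))}
    (adjb : DCoh.RpushQ (Spec.map (CommRingCat.ofHom φ)) hq ⊣ b) {Rφ : Dual.D P ⥤ Dual.D A}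
    (adj : DRing.restrictD φ ⊣ Rφ) (M : Dual.D P) :
    Nonempty ((DCoh.tildeD (CommRingCat.of A)).obj (Rφ.obj M) ≅ (b.obj ((tQ P).obj M)).obj) := by
  obtain ⟨w⟩ := nonempty_pushRing_iso φ hq
  let adj' := (((tQ A).asEquivalence.toAdjunction.comp adjb).comp (tQ P).asEquivalence.symm.toAdjunction)
  let r := (adj'.ofNatIsoLeft (Functor.associator _ _ _ ≪≫ w)).rightAdjointUniq adj
  exact ⟨(ObjectProperty.ι _).mapIso ((tQ A).mapIso (r.app M).symm ≪≫
    (tQ A).asEquivalence.counitIso.app (b.obj ((tQ P).obj M)))⟩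

end Groth.Agent.LeadBrown.Aff
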