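import Groth.Agent.LeadBrown.Aff.Bound
import Groth.Agent.LeadBrown.Aff.TildeAdjoint
import Groth.Agent.LeadBrown.Aff.AffineSpace
import Groth.Agent.LeadBrown.LocalModel
import Groth.Agent.H4RepDual.Bridge

/-!
# `φ^!` of rings is `f^!` of schemes
-/

set_option autoImplicit false
set_option linter.style.haveILetI false
set_option linter.unusedSectionVars false
set_option backward.isDefEq.respectTransparency false
set_option maxHeartbeats 3000000

universe u

open CategoryTheory CategoryTheory.Limits AlgebraicGeometry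
open Groth.Agent.H16Derived Groth.Agent.H16Derived.KFlat
open Groth.Agent.H16Derived.KFlat.Stalk (rd rdComp hasLpull)
open DerivedCategory.TStructure (t)

attribute [local instance] HasDerivedCategory.standard

namespace Groth.Agent.LeadBrown.Aff

variable {R A : Type u} [CommRing R] [CommRing A] [IsNoetherianRing R] [IsNoetherianRing A] [Algebra R A]
  {n : ℕ} (ψ : MvPolynomial (Fin n) R →ₐ[R] A) (hψ : Function.Surjective ψ)
  [DRing.HasLBaseChange (algebraMap R (MvPolynomial (Fin n) R))]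
  {Rψ : Dual.D (MvPolynomial (Fin n) R) ⥤ Dual.D A} (adj : DRing.restrictD ψ.toRingHom ⊣ Rψ)
  [∀ (U V : Scheme.{u}) (j : U ⟶ V) [IsOpenImmersion j], PreservesFiniteLimits (Scheme.Modules.restrictFunctor j)]
  [∀ (S : CommRingCat.{u}), PreservesFiniteLimits (tilde.functor S)]

/-- The morphism of affine schemes. -/
noncomputable abbrev specMor (R A : Type u) [CommRing R] [CommRing A] [Algebra R A] :
    Spec (CommRingCat.of A) ⟶ Spec (CommRingCat.of R) :=
  Spec.map (CommRingCat.ofHom (algebraMap R A))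

include hψ adj in
/-- `φ^! R` is `f^! O` for a compactification of `Spec A → Spec R` in projective space. -/
theorem exists_shriek_model :
    ∃ (c : DEt.Compactification (specMor R A)) (_ : DCoh.HasRpush c.fbar)
      (hc : DCoh.RpushPreservesQCoh c.fbar) (a : DCoh.DQCoh (Spec (CommRingCat.of R)) ⥤ DCoh.DQCoh c.Xbar)
      (_ : DCoh.RpushQ c.fbar hc ⊣ a) (O : DCoh.DQCoh (Spec (CommRingCat.of R))),
      Nonempty (O.obj ≅ DCoh.inD _ (Coh.structureModule (Spec (CommRingCat.of R)))) ∧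
      Nonempty ((DCoh.tildeD (CommRingCat.of A)).obj (Dual2.shriekVia n Rψ (Dual.inD R R)) ≅
        (haveI := c.isOpenImmersion; (rd c.j).obj (a.obj O).obj)) := by
  let P₀ := MvPolynomial (Fin n) R
  let S : Scheme.{u} := Spec (CommRingCat.of R)
  let W : Scheme.{u} := Spec (CommRingCat.of P₀)
  let X : Scheme.{u} := Spec (CommRingCat.of A)
  let iW : X ⟶ W := Spec.map (CommRingCat.ofHom ψ.toRingHom)
  haveI : IsClosedImmersion iW := IsClosedImmersion.spec_of_surjective _ hψ
  haveI : IsNoetherian S := inferInstance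
  haveI : IsNoetherian W := inferInstance
  haveI : IsNoetherian X := inferInstance
  have hw : iW ≫ Spec.map (CommRingCat.ofHom (algebraMap R P₀)) = specMor R A := by
    rw [← Spec.map_comp, ← CommRingCat.ofHom_comp]
    congr 2
    exact ψ.comp_algebraMap
  obtain ⟨o, ho, hop, hor⟩ := exists_affineSpace n R
  haveI := ho
  let P := CohB1.ProjSpace n R
  let p : P ⟶ S := CohB1.ProjSpace.toSpec n R
  haveI : IsProper p := H27Weil.isProper_toSpec n R
  haveI : CompactSpace P := QuasiCompact.compactSpace_of_compactSpace p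
  haveI : QuasiSeparatedSpace P := quasiSeparatedSpace_of_quasiSeparated p
  haveI : IsLocallyNoetherian P := LocallyOfFiniteType.isLocallyNoetherian p
  haveI : IsNoetherian P := { }
  haveI : QuasiCompact o := quasiCompact_of_compactSpace o
  let i₀ : X ⟶ P := iW ≫ o
  haveI : IsImmersion i₀ := inferInstanceAs (IsImmersion (iW ≫ o))
  haveI : QuasiCompact i₀ := quasiCompact_of_compactSpace i₀
  have hi₀ : i₀ ≫ p = specMor R A := by rw [Category.assoc, hop, hw]
  let Z := i₀.image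
  let ι : Z ⟶ P := i₀.imageι
  let j₂ : X ⟶ Z := i₀.toImage
  haveI : IsProper (ι ≫ p) := inferInstance
  haveI : CompactSpace Z := QuasiCompact.compactSpace_of_compactSpace (ι ≫ p)
  haveI : QuasiSeparatedSpace Z := quasiSeparatedSpace_of_quasiSeparated (ι ≫ p)
  haveI : QuasiCompact j₂ := quasiCompact_of_compactSpace j₂
  haveI := QCohD.hasRpush ι
  haveI := QCohD.hasRpush p
  haveI := QCohD.hasRpush (ι ≫ p)
  haveI := QCohD.hasRpush iW
  have hι : DCoh.RpushPreservesQCoh ι := fun K hK => QCohD.isQCohD_rpush ι hK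
  have hp : DCoh.RpushPreservesQCoh p := fun K hK => QCohD.isQCohD_rpush p hK
  have hg : DCoh.RpushPreservesQCoh (ι ≫ p) := fun K hK => QCohD.isQCohD_rpush (ι ≫ p) hK
  have hiW : DCoh.RpushPreservesQCoh iW := fun K hK => QCohD.isQCohD_rpush iW hK
  haveI := isLeftAdjoint_rpushQ ι hι
  haveI := isLeftAdjoint_rpushQ p hp
  haveI := isLeftAdjoint_rpushQ (ι ≫ p) hg
  haveI := isLeftAdjoint_rpushQ iW hiW
  have adjι := Adjunction.ofIsLeftAdjoint (DCoh.RpushQ ι hι)
  have adjp := Adjunction.ofIsLeftAdjoint (DCoh.RpushQ p hp)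
  have adjg := Adjunction.ofIsLeftAdjoint (DCoh.RpushQ (ι ≫ p) hg)
  have adjW := Adjunction.ofIsLeftAdjoint (DCoh.RpushQ iW hiW)
  obtain ⟨ec⟩ := nonempty_rightAdjoint_comp ι p hι hp hg adjι adjp adjg
  let c : DEt.Compactification (specMor R A) :=
    { Xbar := Z, j := j₂, fbar := ι ≫ p, isOpenImmersion := inferInstance, isProper := inferInstance
      fac := by rw [← Category.assoc, Scheme.Hom.toImage_imageι, hi₀] }
  -- base change to affine space
  have hrW : Set.range j₂.base = ι.base ⁻¹' Set.range o.base := by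
    ext z
    constructor
    · rintro ⟨w, rfl⟩
      exact ⟨iW.base w, congr($((Scheme.Hom.toImage_imageι i₀).symm).base w)⟩
    · rintro ⟨w, hw'⟩
      have hcl : ι.base z ∈ closure (Set.range i₀.base) := by
        have h1 : z ∈ closure (Set.range j₂.base) := by
          rw [(j₂.denseRange).closure_range]; trivial
        have h2 := image_closure_subset_closure_image ι.continuous ⟨z, h1, rfl⟩
        refine closure_mono ?_ h2
        rintro _ ⟨_, ⟨v, rfl⟩, rfl⟩
        exact ⟨v, congr($((Scheme.Hom.toImage_imageι i₀).symm).base v)⟩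
      have hwcl : w ∈ Set.range iW.base := by
        by_contra hn
        obtain ⟨y, hy1, hy2⟩ := mem_closure_iff.1 hcl (o.base '' (Set.range iW.base)ᶜ)
          (o.isOpenEmbedding.isOpenMap _ iW.isClosedEmbedding.isClosed_range.isOpen_compl) ⟨w, hn, hw'⟩
        obtain ⟨v, hv, rfl⟩ := hy1
        obtain ⟨x, hx⟩ := hy2
        exact hv ⟨x, o.isOpenEmbedding.injective hx⟩
      obtain ⟨x, hx⟩ := hwcl
      exact ⟨x, ι.isClosedEmbedding.injective ((congr($(Scheme.Hom.toImage_imageι i₀).base x)).trans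
        ((congrArg o.base hx).trans hw'))⟩
  obtain ⟨θ, -, hθ⟩ := exists_bc adjι o j₂ adjW (Scheme.Hom.toImage_imageι i₀) hrW
    (fun L => ⟨(rd o).obj L.obj, QCohD.isQCohD_rd o L.property⟩) fun L => rfl
  let O : DCoh.DQCoh S := ⟨DCoh.inD S (Coh.structureModule S),
    Dual.isQCohD_of_isPerfect (PnD.isPerfect_one S)⟩
  let Mp := (DCoh.RpushQ p hp).rightAdjoint.obj O
  obtain ⟨lo, hlo⟩ := exists_isGE adjp O 0 inferInstance
  haveI := hθ Mp lo hlo
  obtain ⟨eω⟩ := S1824.result n R hp _ adjp O ⟨Iso.refl _⟩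
  -- the twist on affine space
  let V := Proj.basicOpen (CohB1.polyGrading n R) (MvPolynomial.X (0 : Fin (n + 1)))
  have hoV : o.opensRange = (V : P.Opens) := TopologicalSpace.Opens.ext hor
  obtain ⟨τ₀⟩ := nonempty_twist_restrict_iso n R (n + 1)
  let T := Twist.twistProjSpace n R (-(((n + 1 : ℕ)) : ℤ))
  have hT : Twist.twistProjSpace n R (-((n : ℤ) + 1)) = T := by simp [T]
  let o' : W ⟶ (V : Scheme.{u}) := IsOpenImmersion.lift (Scheme.Opens.ι V) o (by rw [Scheme.Opens.range_ι, ← hoV]; rfl)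
  have ho' : o' ≫ Scheme.Opens.ι V = o := IsOpenImmersion.lift_fac _ _ _
  haveI : IsOpenImmersion o' := by
    haveI : IsOpenImmersion (o' ≫ Scheme.Opens.ι V) := by rw [ho']; infer_instance
    exact IsOpenImmersion.of_comp o' (Scheme.Opens.ι V)
  let eT : (rd o).obj (DCoh.inD P T) ≅ DCoh.inD W (Coh.structureModule W) :=
    rdComp o' (Scheme.Opens.ι V) o ho' _ ≪≫ (rd o').mapIso
      (((Scheme.Modules.restrictFunctor (Scheme.Opens.ι V)).mapDerivedCategorySingleFunctor 0).app T ≪≫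
        (DerivedCategory.singleFunctor _ 0).mapIso τ₀) ≪≫
      ((Scheme.Modules.restrictFunctor o').mapDerivedCategorySingleFunctor 0).app _ ≪≫
        (DerivedCategory.singleFunctor W.Modules 0).mapIso (Scheme.Modules.restrictUnitIso o')
  let eM : (rd o).obj Mp.obj ≅ (DCoh.inD W (Coh.structureModule W))⟦(n : ℤ)⟧ :=
    (rd o).mapIso (eω ≪≫ (shiftFunctor _ (n : ℤ)).mapIso (eqToIso (by rw [hT]))) ≪≫
      ((rd o).commShiftIso (n : ℤ)).app _ ≪≫ (shiftFunctor _ (n : ℤ)).mapIso eT
  let M₀ : Dual.D P₀ := ((DRing.LBaseChange (algebraMap R P₀)).obj (Dual.inD R R))⟦(n : ℤ)⟧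
  let e₀ : (DCoh.tildeD (CommRingCat.of P₀)).obj M₀ ≅ (rd o).obj Mp.obj :=
    (DCoh.tildeD (CommRingCat.of P₀)).mapIso ((shiftFunctor _ (n : ℤ)).mapIso lbaseUnit) ≪≫
      ((DCoh.tildeD (CommRingCat.of P₀)).commShiftIso (n : ℤ)).app _ ≪≫
        (shiftFunctor _ (n : ℤ)).mapIso H4RepDual.tildeUnit ≪≫ eM.symm
  obtain ⟨eb⟩ := nonempty_rightAdjoint_tilde ψ.toRingHom hiW adjW adj M₀
  refine ⟨c, ‹DCoh.HasRpush (ι ≫ p)›, hg, _, adjg, O, ⟨Iso.refl _⟩, ⟨?_⟩⟩
  exact (DCoh.tildeD (CommRingCat.of A)).mapIso ((H26Dual2.shiftRightAdjointIso adj (n : ℤ)).app _) ≪≫ eb ≪≫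
    (ObjectProperty.ι _).mapIso ((DCoh.RpushQ iW hiW).rightAdjoint.mapIso
      ((ObjectProperty.ι (DCoh.IsQCohD (X := W))).preimageIso
        (X := (tQ P₀).obj M₀) (Y := ⟨(rd o).obj Mp.obj, QCohD.isQCohD_rd o Mp.property⟩) e₀)) ≪≫
    (asIso (θ Mp)).symm ≪≫ (rd j₂).mapIso ((ObjectProperty.ι _).mapIso (ec.app O)).symm

end Groth.Agent.LeadBrown.Aff
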