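import Groth.Agent.LeadBrown.Aff.Apply
import Groth.Agent.H16Derived.TorTest.RelTildeAmp
import Groth.Agent.H16Derived.TorTest.AbsStalk
import Groth.Agent.S3612

/-!
# The degrees of `φ^! R` for a flat algebra
-/

set_option autoImplicit false
set_option linter.style.haveILetI false
set_option linter.unusedSectionVars false
set_option backward.isDefEq.respectTransparency false
set_option maxHeartbeats 1000000

universe u

open CategoryTheory CategoryTheory.Limits AlgebraicGeometry

attribute [local instance] HasDerivedCategory.standard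

namespace Groth.Agent.LeadBrown.Aff

variable {R A : Type u} [CommRing R] [CommRing A] [IsNoetherianRing R] [IsNoetherianRing A] [Algebra R A]
  [Module.Flat R A] {n : ℕ} (ψ : MvPolynomial (Fin n) R →ₐ[R] A) (hψ : Function.Surjective ψ)
  [DRing.HasLBaseChange (algebraMap R (MvPolynomial (Fin n) R))]
  {Rψ : Dual.D (MvPolynomial (Fin n) R) ⥤ Dual.D A} (adj : DRing.restrictD ψ.toRingHom ⊣ Rψ)

include hψ adj in
/-- Degrees and tor amplitude. -/
theorem degrees_and_amplitude (d : ℕ) :
    (∀ (q : PrimeSpectrum A), FlatMor.fibreDimAt (specMor R A) q = d → ∀ i : ℤ,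
      Nontrivial (LocalizedModule q.asIdeal.primeCompl (Dual.HD A (Dual2.shriekVia n Rψ (Dual.inD R R)) i)) →
        -(d : ℤ) ≤ i ∧ i ≤ 0) ∧
    ((∀ q : PrimeSpectrum A, FlatMor.fibreDimAt (specMor R A) q ≤ (d : WithBot ℕ∞)) →
      DRing.HasTorAmplitudeIn R (-(d : ℤ)) 0
        ((DRing.restrictD (algebraMap R A)).obj (Dual2.shriekVia n Rψ (Dual.inD R R)))) := by
  haveI : ∀ (U V : Scheme.{u}) (j : U ⟶ V) [IsOpenImmersion j],
      PreservesFiniteLimits (Scheme.Modules.restrictFunctor j) := fun U V j _ => inferInstance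
  haveI : ∀ (S : CommRingCat.{u}), PreservesFiniteLimits (tilde.functor S) := inferInstance
  haveI : Algebra.FiniteType R A := Algebra.FiniteType.of_surjective ψ hψ
  obtain ⟨c, hpush, hc, a, adjc, O, hO, ⟨e⟩⟩ := exists_shriek_model ψ hψ adj
  haveI := c.isOpenImmersion
  haveI := isSepFT_specMor (R := R) (A := A)
  haveI := flat_specMor (R := R) (A := A)
  haveI := isSepFT_id (Spec (CommRingCat.of R))
  obtain ⟨h1, h2⟩ := S3612.result (Spec (CommRingCat.of R)) (Spec (CommRingCat.of A)) (Spec (CommRingCat.of R))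
    (specMor R A) (𝟙 _) (specMor R A) (Category.comp_id _) c hc a adjc O hO
  refine ⟨fun q hq i hi => h1 q d (by rw [Rel.localFibreDim_eq]; exact hq.le) i
    ((nontrivial_localized_iff c.j e q i).1 hi), fun hd => ?_⟩
  obtain ⟨E, hv, hflat, ⟨eE⟩⟩ := h2 d (fibreDimLE_of_forall _ d hd)
  exact (H16Derived.TorTest.hasTorAmplitude_tildeD_iff (algebraMap R A) _ E (eE ≪≫ e.symm) _ _).1
    (H16Derived.TorTest.hasTorAmplitude_of_flat (specMor R A) hv hflat)

end Groth.Agent.LeadBrown.Aff
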