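import Groth.Agent.LeadBrown.Aff.Refl
import Groth.Agent.LeadBrown.Aff.Flat
import Groth.Agent.H7Lim.FibreDimDescend
import Groth.Agent.S3643
import Groth.Agent.S12898
import Groth.Agent.S1055
import Groth.Agent.H26Dual2.PolyTower
import Groth.Agent.H02CA.GorRing

/-!
# The properties of `φ^! R` for a flat algebra
-/

set_option autoImplicit false
set_option linter.style.haveILetI false
set_option linter.unusedSectionVars false
set_option backward.isDefEq.respectTransparency false
set_option maxHeartbeats 2000000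

universe u

open CategoryTheory CategoryTheory.Limits AlgebraicGeometry
open scoped TensorProduct
open Groth.Agent.H16Derived.KFlat.Stalk (rd rdComp hasLpull)

attribute [local instance] HasDerivedCategory.standard

namespace Groth.Agent.LeadBrown.Aff

variable {R A : Type u} [CommRing R] [CommRing A] [IsNoetherianRing R] [IsNoetherianRing A] [Algebra R A]
  [Module.Flat R A] {n : ℕ} (ψ : MvPolynomial (Fin n) R →ₐ[R] A) (hψ : Function.Surjective ψ)
  [DRing.HasLBaseChange (algebraMap R (MvPolynomial (Fin n) R))]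
  {Rψ : Dual.D (MvPolynomial (Fin n) R) ⥤ Dual.D A} (adj : DRing.restrictD ψ.toRingHom ⊣ Rψ)

omit [Module.Flat R A] in
include hψ in
theorem fibreDimAt_le (q : PrimeSpectrum A) :
    FlatMor.fibreDimAt (specMor R A) q ≤ (n : WithBot ℕ∞) := by
  let i := Spec.map (CommRingCat.ofHom ψ.toRingHom)
  let g := Spec.map (CommRingCat.ofHom (algebraMap R (MvPolynomial (Fin n) R)))
  haveI : IsClosedImmersion i := IsClosedImmersion.spec_of_surjective _ hψ
  haveI := smoothOfRelativeDimension_mvPolynomial R n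
  haveI : Smooth g := SmoothOfRelativeDimension.smooth n g
  have hw : i ≫ g = specMor R A := by
    rw [← Spec.map_comp, ← CommRingCat.ofHom_comp]
    congr 2
    exact ψ.comp_algebraMap
  rw [← hw]
  exact (H7Lim.fibreDimAt_comp_closedImmersion_le i g q).trans
    (H8Props.FieldDim.fibreDimAt_of_smoothOfRelativeDimension g n _).le

include hψ adj in
theorem subsingleton_HD_outside (i : ℤ) (hi : i < -(n : ℤ) ∨ 0 < i) :
    Subsingleton (Dual.HD A (Dual2.shriekVia n Rψ (Dual.inD R R)) i) := by
  let H := Dual.HD A (Dual2.shriekVia n Rψ (Dual.inD R R)) i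
  refine (Module.support_eq_empty_iff (R := A)).1 (Set.eq_empty_iff_forall_notMem.2 fun q hq => ?_)
  haveI hne : Nontrivial (LocalizedModule q.asIdeal.primeCompl H) := hq
  haveI : Algebra.FiniteType R A := Algebra.FiniteType.of_surjective ψ hψ
  haveI := isSepFT_specMor (R := R) (A := A)
  obtain ⟨d, hd⟩ : ∃ d : ℕ, FlatMor.fibreDimAt (specMor R A) q = (d : WithBot ℕ∞) := by
    haveI : LocallyOfFiniteType (specMor R A) :=
      (HasRingHomProperty.Spec_iff (P := @LocallyOfFiniteType)).2 (RingHom.finiteType_algebraMap.2 ‹_›)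
    obtain ⟨t, ht, -⟩ := H8Props.FieldDim.fibreDimAt_eq (specMor R A) q
    have hle := fibreDimAt_le ψ hψ q
    have h0 : (0 : WithBot ℕ∞) ≤ FlatMor.fibreDimAt (specMor R A) q := by
      haveI : Nontrivial ((Spec (CommRingCat.of A)).presheaf.stalk q ⧸
          (IsLocalRing.maximalIdeal ((Spec (CommRingCat.of R)).presheaf.stalk ((specMor R A) q))).map
            ((specMor R A).stalkMap q).hom) :=
        Ideal.Quotient.nontrivial_iff.2 (ne_top_of_le_ne_top (IsLocalRing.maximalIdeal.isMaximal _).ne_top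
          (IsLocalRing.map_maximalIdeal_le ((specMor R A).stalkMap q).hom))
      rw [ht]
      exact add_nonneg ringKrullDim_nonneg_of_nontrivial (by exact_mod_cast Nat.zero_le t)
    revert hle h0
    generalize FlatMor.fibreDimAt (specMor R A) q = e
    intro hle h0
    induction e using WithBot.recBotCoe with
    | bot => simp at h0
    | coe e =>
      induction e using ENat.recTopCoe with
      | top => exact absurd (WithBot.coe_le_coe.1 hle) (by simp)
      | coe m => exact ⟨m, rfl⟩
  obtain ⟨h1, h2⟩ := (degrees_and_amplitude ψ hψ adj d).1 q hd i hne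
  have hdn : d ≤ n := by
    have := hd ▸ fibreDimAt_le ψ hψ q
    exact_mod_cast this
  omega

include hψ adj in
theorem finite_HD_shriek (i : ℤ) :
    Module.Finite A (Dual.HD A (Dual2.shriekVia n Rψ (Dual.inD R R)) i) := by
  let P := MvPolynomial (Fin n) R
  haveI : Module.Finite A (Dual.HD A (Rψ.obj (Dual.inD P P)) (n + i)) :=
    H26Dual2.finite_rightAdjoint (RingHom.Finite.of_surjective ψ.toRingHom hψ) adj
      (Y := Dual.inD P P) (fun j => by
        by_cases hj : j = 0
        · subst hj
          exact Module.Finite.equiv (H4DR.PCoh.HDinD (ModuleCat.of P P)).symm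
        · haveI : Subsingleton (Dual.HD P (Dual.inD P P) j) := H4DR.PCoh.subsingleton_HD_inD (ModuleCat.of P P) j hj
          exact Module.Finite.of_finite)
      (c := 0) (fun j hj => H4DR.PCoh.subsingleton_HD_inD (ModuleCat.of P P) j hj.ne) _
  let e : Rψ.obj (Dual.inD P P) ≅ Rψ.obj ((DRing.LBaseChange (algebraMap R P)).obj (Dual.inD R R)) :=
    Rψ.mapIso lbaseUnit.symm
  exact Module.Finite.equiv ((H4DR.PCoh.hShift (Rψ.obj ((DRing.LBaseChange (algebraMap R P)).obj (Dual.inD R R)))
    n i (n + i) rfl).trans (H4DR.PCoh.hEquiv (n + i) e.symm)).symm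

include hψ adj in
theorem endProps_shriek :
    Function.Bijective (fun a : A => a • 𝟙 (Dual2.shriekVia n Rψ (Dual.inD R R))) ∧
      ∀ i : ℤ, i ≠ 0 → Subsingleton (Dual2.shriekVia n Rψ (Dual.inD R R) ⟶
        (Dual2.shriekVia n Rψ (Dual.inD R R))⟦i⟧) :=
  endProps_shift (n : ℤ) (endProps_of_iso (Rψ.mapIso lbaseUnit.symm)
    (endProps_rightAdjoint adj (RingHom.Finite.of_surjective ψ.toRingHom hψ)
      ⟨_, H8Props.PseudoCoh.tdr_presentation (H8Props.PseudoCoh.hasTorDimLE_of_flat 0 A) n ψ⟩))

/-- The fibres of a field extension of a finite type algebra are Gorenstein. -/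
theorem isGorensteinRing_fibre {κ F k B : Type u} [Field κ] [Field k] [CommRing F] [CommRing B] [Algebra κ F]
    [Algebra.FiniteType κ F] [Algebra κ k] [Algebra F B] (c' : (F ⊗[κ] k) ≃ₐ[F] B) (q : PrimeSpectrum F) :
    LocCoh.IsGorensteinRing (q.asIdeal.Fiber B) := by
  haveI : Algebra.EssFiniteType F q.asIdeal.ResidueField := inferInstance
  haveI : Algebra.EssFiniteType κ q.asIdeal.ResidueField := Algebra.EssFiniteType.comp κ F _
  refine H02CA.GorFlat.isGorensteinRing_of_ringEquiv
    ((Algebra.TensorProduct.comm κ k q.asIdeal.ResidueField).toRingEquiv.trans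
      ((Algebra.TensorProduct.cancelBaseChange κ F F q.asIdeal.ResidueField k).symm.toRingEquiv.trans
        (Algebra.TensorProduct.congr (AlgEquiv.refl : q.asIdeal.ResidueField ≃ₐ[F] q.asIdeal.ResidueField) c').toRingEquiv)) ?_
  exact H02CA.GorFlat.isGorensteinRing_field_tensor κ k q.asIdeal.ResidueField
    (IntermediateField.fg_top_iff.mpr inferInstance)

include hψ adj in
/-- The base change to a residue field of `R` is dualizing. -/
theorem isDualizing_fibre (p : PrimeSpectrum R)
    [DRing.HasLBaseChange (Algebra.TensorProduct.includeRight : A →ₐ[R] p.asIdeal.Fiber A).toRingHom] :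
    Dual.IsDualizing (p.asIdeal.Fiber A)
      ((DRing.LBaseChange (Algebra.TensorProduct.includeRight : A →ₐ[R] p.asIdeal.Fiber A).toRingHom).obj
        (Dual2.shriekVia n Rψ (Dual.inD R R))) := by
  haveI : ∀ (U V : Scheme.{u}) (j : U ⟶ V) [IsOpenImmersion j],
      PreservesFiniteLimits (Scheme.Modules.restrictFunctor j) := fun U V j _ => inferInstance
  haveI : ∀ (S : CommRingCat.{u}), PreservesFiniteLimits (tilde.functor S) := inferInstance
  haveI : Algebra.FiniteType R A := Algebra.FiniteType.of_surjective ψ hψ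
  obtain ⟨c, hpush, hc, a, adjc, O, hO, ⟨e⟩⟩ := exists_shriek_model ψ hψ adj
  haveI := c.isOpenImmersion
  haveI := isSepFT_specMor (R := R) (A := A)
  haveI := flat_specMor (R := R) (A := A)
  haveI := isSepFT_id (Spec (CommRingCat.of R))
  let f := specMor R A
  haveI := hasLpull (f.fiberι p)
  have hd := S3643.result (Spec (CommRingCat.of R)) (Spec (CommRingCat.of A)) (Spec (CommRingCat.of R))
    f (𝟙 _) f (Category.comp_id _) c hc a adjc O hO p
  let φ := (Algebra.TensorProduct.includeRight : A →ₐ[R] p.asIdeal.Fiber A).toRingHom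
  let j := (Arrow.leftFunc.mapIso (Spec.fiberToSpecResidueFieldIso R A p)).inv
  have hj : j ≫ f.fiberι p = Spec.map (CommRingCat.ofHom φ) := by
    simp only [j, φ, f, Spec.fiberToSpecResidueFieldIso, Arrow.leftFunc, Scheme.Hom.fiberι]
    simp
    rw [← pullbackSpecIso_inv_snd R p.asIdeal.ResidueField A]
    congr 1
    rw [IsIso.inv_comp_eq]
    exact ((pullback.lift_snd _ _ _).trans (Category.comp_id _)).symm
  haveI := hasLpull (Spec.map (CommRingCat.ofHom φ))
  obtain ⟨ω', hω', ⟨eω⟩⟩ := hd (p.asIdeal.Fiber A) j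
  obtain ⟨e₁⟩ := H16Derived.QCohD.lpull_factor (f.fiberι p) j (Spec.map (CommRingCat.ofHom φ)) (𝟙 _)
    (by rw [Category.comp_id, hj]) ((rd c.j).obj (a.obj O).obj)
  obtain ⟨t⟩ := S1055.result φ
  haveI := (H16Derived.QCohD.full_faithful (R := CommRingCat.of (p.asIdeal.Fiber A))).1
  haveI := (H16Derived.QCohD.full_faithful (R := CommRingCat.of (p.asIdeal.Fiber A))).2
  let e₂ : (DCoh.tildeD (CommRingCat.of (p.asIdeal.Fiber A))).obj ω' ≅
      (DCoh.tildeD (CommRingCat.of (p.asIdeal.Fiber A))).obj
        ((DRing.LBaseChange φ).obj (Dual2.shriekVia n Rψ (Dual.inD R R))) :=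
    eω.symm ≪≫ e₁ ≪≫ (DCoh.Lpull (Spec.map (CommRingCat.ofHom φ))).mapIso
      ((rdComp (𝟙 _) c.j _ (Category.id_comp _) _).symm ≪≫ e.symm) ≪≫ (t.app _).symm
  exact H4DR.Dualizing.isDualizing_of_iso ((DCoh.tildeD _).preimageIso e₂) hω'

include hψ adj in
/-- The base change to a field is dualizing. -/
theorem isDualizing_field (k : Type u) [Field k] [Algebra R k]
    [DRing.HasLBaseChange (Algebra.TensorProduct.includeRight : A →ₐ[R] k ⊗[R] A).toRingHom] :
    Dual.IsDualizing (k ⊗[R] A)
      ((DRing.LBaseChange (Algebra.TensorProduct.includeRight : A →ₐ[R] k ⊗[R] A).toRingHom).obj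
        (Dual2.shriekVia n Rψ (Dual.inD R R))) := by
  haveI : Algebra.FiniteType R A := Algebra.FiniteType.of_surjective ψ hψ
  let p : PrimeSpectrum R := ⟨RingHom.ker (algebraMap R k), RingHom.ker_isPrime _⟩
  haveI : p.asIdeal.IsPrime := p.isPrime
  let ι : p.asIdeal.ResidueField →ₐ[R] k := Ideal.ResidueField.liftₐ p.asIdeal (Algebra.ofId R k) le_rfl
    fun x hx => isUnit_iff_ne_zero.2 hx
  letI : Algebra p.asIdeal.ResidueField k := ι.toRingHom.toAlgebra
  haveI : IsScalarTower R p.asIdeal.ResidueField k := .of_algebraMap_eq' ι.comp_algebraMap.symm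
  let F := p.asIdeal.Fiber A
  let B := k ⊗[R] A
  let φ := (Algebra.TensorProduct.includeRight : A →ₐ[R] F).toRingHom
  let φk := (Algebra.TensorProduct.includeRight : A →ₐ[R] B).toRingHom
  haveI := H4DR.TorAmp.hasLBaseChange φ
  haveI : IsNoetherianRing F := Algebra.FiniteType.isNoetherianRing p.asIdeal.ResidueField F
  haveI : IsNoetherianRing B := Algebra.FiniteType.isNoetherianRing k B
  have hω := isDualizing_fibre ψ hψ adj p
  let c : F ⊗[p.asIdeal.ResidueField] k ≃+* B :=
    (Algebra.TensorProduct.comm p.asIdeal.ResidueField F k).toRingEquiv.trans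
      (Algebra.TensorProduct.cancelBaseChange R p.asIdeal.ResidueField k k A).toRingEquiv
  letI : Algebra F B := (c.toRingHom.comp (algebraMap F (F ⊗[p.asIdeal.ResidueField] k))).toAlgebra
  let c' : (F ⊗[p.asIdeal.ResidueField] k) ≃ₐ[F] B := AlgEquiv.ofRingEquiv (f := c) fun _ => rfl
  haveI : Module.Flat F B := Module.Flat.of_linearEquiv c'.symm.toLinearEquiv
  have hcomp : (algebraMap F B).comp φ = φk := RingHom.ext fun a => by
    show Algebra.TensorProduct.cancelBaseChange R p.asIdeal.ResidueField k k A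
      (Algebra.TensorProduct.comm p.asIdeal.ResidueField F k (((1 : p.asIdeal.ResidueField) ⊗ₜ[R] a) ⊗ₜ 1)) = 1 ⊗ₜ a
    simp only [Algebra.TensorProduct.comm_tmul]
    exact (Algebra.TensorProduct.cancelBaseChange_tmul R p.asIdeal.ResidueField k k A (1 : k)
      (1 : p.asIdeal.ResidueField) a).trans (by rw [one_smul])
  haveI := H4DR.TorAmp.hasLBaseChange (algebraMap F B)
  obtain ⟨adjφ⟩ := S12898.result φ
  obtain ⟨adjk⟩ := S12898.result φk
  obtain ⟨adjθ⟩ := S12898.result (algebraMap F B)
  let e : DRing.LBaseChange φ ⋙ DRing.LBaseChange (algebraMap F B) ≅ DRing.LBaseChange φk :=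
    ((adjφ.comp adjθ).ofNatIsoRight
      ((H26Dual2.tdComp φ (algebraMap F B)).symm ≪≫ eqToIso (by rw [hcomp]))).leftAdjointUniq adjk
  refine H4DR.Dualizing.isDualizing_of_iso ((H4DR.FlatBC.lbaseIso _).symm ≪≫ e.app _)
    (H4DR.Dualizing.isDualizing_FD_of_fibres hω ?_ fun q => ?_)
  · refine H4DR.Dualizing.ringKrullDim_lt_top_of_finiteType (A := k) ?_
    rw [ringKrullDim_eq_zero_of_field]
    exact WithBot.coe_lt_coe.2 (ENat.natCast_lt_top 0)
  · exact isGorensteinRing_fibre c' q

end Groth.Agent.LeadBrown.Aff
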