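import Groth.Agent.LeadBrown.Aff.Apply
import Groth.Agent.H25Gor.Scheme
import Groth.Agent.H8Props.KoszImm.FibrewiseScheme
import Mathlib.RingTheory.TensorProduct.Finite

/-!
# Gorenstein fibres and local complete intersections, for affine morphisms
-/

set_option autoImplicit false
set_option linter.style.haveILetI false
set_option linter.unusedSectionVars false
set_option backward.isDefEq.respectTransparency false

universe u

open CategoryTheory CategoryTheory.Limits AlgebraicGeometry
open scoped TensorProduct

namespace Groth.Agent.LeadBrown.Aff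

variable {R A : Type u} [CommRing R] [CommRing A] [Algebra R A]

/-- Gorenstein fibre rings are Gorenstein at every point. -/
theorem forall_isGorensteinRing_fibre_iff [Algebra.FiniteType R A] [Module.Flat R A] :
    (∀ p : PrimeSpectrum R, LocCoh.IsGorensteinRing (A ⊗[R] p.asIdeal.ResidueField)) ↔
      ∀ q : (Spec (CommRingCat.of A) : Scheme.{u}), Dual3.IsGorensteinAt (specMor R A) q := by
  let f := specMor R A
  haveI := flat_specMor (R := R) (A := A)
  let e : ∀ p : (Spec (CommRingCat.of R) : Scheme.{u}), f.fiber p ≅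
      Spec (CommRingCat.of ((show PrimeSpectrum R from p).asIdeal.Fiber A)) := fun p =>
    Arrow.leftFunc.mapIso (Spec.fiberToSpecResidueFieldIso R A p)
  have hst : ∀ (p : (Spec (CommRingCat.of R) : Scheme.{u})) (z : f.fiber p),
      LocCoh.IsGorensteinLocalRing ((f.fiber p).presheaf.stalk z) ↔
        LocCoh.IsGorensteinLocalRing (Localization.AtPrime ((e p).hom z).asIdeal) := fun p z =>
    (H02CA.GorFlat.gor_iff_of_ringEquiv
      (asIso ((e p).hom.stalkMap z)).commRingCatIsoToRingEquiv).symm.trans
    (H02CA.GorFlat.gor_iff_of_ringEquiv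
      (Spec.stalkIso (CommRingCat.of ((show PrimeSpectrum R from p).asIdeal.Fiber A))
        ((e p).hom z)).commRingCatIsoToRingEquiv)
  constructor
  · intro h q
    refine ⟨Flat.stalkMap f q, (hst _ _).2 ?_⟩
    let p : PrimeSpectrum R := f q
    haveI : LocCoh.IsGorensteinRing (p.asIdeal.Fiber A) := H02CA.GorFlat.isGorensteinRing_of_ringEquiv
      (Algebra.TensorProduct.comm R A p.asIdeal.ResidueField).toRingEquiv (h p)
    exact LocCoh.IsGorensteinRing.isGorensteinLocalRing_localization _
  · intro h p
    refine H02CA.GorFlat.isGorensteinRing_of_ringEquiv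
      (Algebra.TensorProduct.comm R A p.asIdeal.ResidueField).symm.toRingEquiv ?_
    haveI : IsNoetherianRing (p.asIdeal.Fiber A) :=
      Algebra.FiniteType.isNoetherianRing p.asIdeal.ResidueField _
    refine { isGorensteinLocalRing_localization := fun P hP => ?_ }
    let z : f.fiber p := (e p).inv (⟨P, hP⟩ : PrimeSpectrum (p.asIdeal.Fiber A))
    have hz : (e p).hom z = (⟨P, hP⟩ : PrimeSpectrum (p.asIdeal.Fiber A)) := by
      show ((e p).inv ≫ (e p).hom) _ = _
      rw [Iso.inv_hom_id]; rfl
    have key : ∀ (x : (Spec (CommRingCat.of A) : Scheme.{u})) (s : (Spec (CommRingCat.of R) : Scheme.{u}))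
        (_ : f x = s) (z : f.fiber s), (f.fiberι s).base z = x →
        LocCoh.IsGorensteinLocalRing ((f.fiber s).presheaf.stalk z) := by
      intro x s hs z hz
      subst hs
      have e' : z = f.asFiber x := (f.fiberι (f x)).isEmbedding.injective
        (hz.trans (Scheme.Hom.fiberι_asFiber f x).symm)
      subst e'
      exact (h x).2
    have h1 : (f.fiberι p).base z ∈ Set.range (f.fiberι p).base := ⟨z, rfl⟩
    rw [Scheme.Hom.range_fiberι] at h1
    have h2 := (hst p z).1 (key _ p h1 z rfl)
    rw [hz] at h2
    exact h2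

/-- A local complete intersection of rings is one of schemes. -/
theorem isLCIMor_specMor (h : LCI.IsLCI R A) : Dual3.IsLCIMor (specMor R A) := fun x => by
  obtain ⟨U, V, hU, hV, hUV, hxU, hl⟩ :=
    (H8Props.KoszImm.exists_chart_isLCI_iff (specMor R A) x).2 ((H8Props.KoszImm.forall_isKoszulAt_Spec_iff).2 h x)
  exact ⟨⟨U, hU⟩, ⟨V, hV⟩, hUV, hxU, hl⟩

end Groth.Agent.LeadBrown.Aff
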