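import Groth.Agent.LeadBrown.Aff.Fibres
import Groth.Agent.H4RepDual.PointScheme
import Groth.Agent.LeadBrown.Rel.Gorenstein
import Groth.Agent.S3609

/-!
# Invertibility of `φ^! R` near a prime
-/

set_option autoImplicit false
set_option linter.style.haveILetI false
set_option linter.unusedSectionVars false
set_option backward.isDefEq.respectTransparency false
set_option maxHeartbeats 1600000

universe u

open CategoryTheory CategoryTheory.Limits AlgebraicGeometry
open Groth.Agent.H16Derived
open Groth.Agent.H16Derived.KFlat.Stalk (rd rdComp hasLpull)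
open scoped TensorProduct

attribute [local instance] HasDerivedCategory.standard

namespace Groth.Agent.LeadBrown.Aff

variable [∀ (U V : Scheme.{u}) (j : U ⟶ V) [IsOpenImmersion j], PreservesFiniteLimits (Scheme.Modules.restrictFunctor j)]
  [∀ (S : CommRingCat.{u}), PreservesFiniteLimits (tilde.functor S)]

section Away

variable {A : Type u} [CommRing A] {X : Scheme.{u}} (j : Spec (CommRingCat.of A) ⟶ X) [IsOpenImmersion j]
  {ω : Dual.D A} {K : DCoh.D X} (e : (DCoh.tildeD (CommRingCat.of A)).obj ω ≅ (rd j).obj K)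

/-- The open immersion of a basic open. -/
noncomputable abbrev awayMor (f : A) : Spec (CommRingCat.of (Localization.Away f)) ⟶ Spec (CommRingCat.of A) :=
  Spec.map (CommRingCat.ofHom (algebraMap A (Localization.Away f)))

theorem isOpenImmersion_awayMor (f : A) : IsOpenImmersion (awayMor f) :=
  IsOpenImmersion.of_isLocalization (S := Localization.Away f) f

include e in
/-- An invertible restriction gives an invertible base change to a basic open. -/
theorem exists_away_iso (hLB : ∀ f : A, DRing.HasLBaseChange (algebraMap A (Localization.Away f)))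
    {U : Scheme.{u}} (l : U ⟶ Spec (CommRingCat.of A)) [IsOpenImmersion l] (m : ℤ)
    (ε : (rd l).obj ((rd j).obj K) ≅ (DCoh.inD U (Coh.structureModule U))⟦m⟧) (q : PrimeSpectrum A)
    (hq : (show (Spec (CommRingCat.of A) : Scheme.{u}) from q) ∈ Set.range l.base) :
    ∃ (f : A) (_ : f ∉ q.asIdeal) (m : ℤ), Nonempty ((DRing.LBaseChange (algebraMap A (Localization.Away f))).obj ω ≅
      (Dual.inD (Localization.Away f) (Localization.Away f))⟦m⟧) := by
  obtain ⟨_, ⟨f, rfl⟩, hqf, hsub⟩ := PrimeSpectrum.isTopologicalBasis_basic_opens.exists_subset_of_mem_open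
    hq l.isOpenEmbedding.isOpen_range
  haveI := hLB f
  let B := Localization.Away f
  let u := awayMor f
  haveI : IsOpenImmersion u := isOpenImmersion_awayMor f
  haveI : Module.Flat A B := IsLocalization.flat B (Submonoid.powers f)
  have hur : Set.range u.base ⊆ Set.range l.base := by
    rintro _ ⟨z, rfl⟩
    apply hsub
    exact (PrimeSpectrum.localization_away_comap_range B f).le ⟨z, rfl⟩
  let v := IsOpenImmersion.lift l u hur
  have hv : v ≫ l = u := IsOpenImmersion.lift_fac _ _ _
  haveI : IsOpenImmersion v := by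
    haveI : IsOpenImmersion (v ≫ l) := by rw [hv]; infer_instance
    exact IsOpenImmersion.of_comp v l
  haveI := hasLpull u
  obtain ⟨a⟩ := QCohD.lpull_openImmersion u ((DCoh.tildeD (CommRingCat.of A)).obj ω)
  haveI := (QCohD.full_faithful (CommRingCat.of B)).1
  haveI := (QCohD.full_faithful (CommRingCat.of B)).2
  let e₁ : (DCoh.tildeD (CommRingCat.of B)).obj ((DRing.LBaseChange (algebraMap A B)).obj ω) ≅
      (DCoh.tildeD (CommRingCat.of B)).obj ((Dual.inD B B)⟦m⟧) :=
    (QCohD.lpullTildeIso (algebraMap A B)).app ω ≪≫ a ≪≫ (rd u).mapIso e ≪≫ rdComp v l u hv _ ≪≫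
      (rd v).mapIso ε ≪≫ ((rd v).commShiftIso m).app _ ≪≫ (shiftFunctor _ m).mapIso
        (((Scheme.Modules.restrictFunctor v).mapDerivedCategorySingleFunctor 0).app (Coh.structureModule U) ≪≫
          (DerivedCategory.singleFunctor _ 0).mapIso (Scheme.Modules.restrictUnitIso v) ≪≫
          (H4RepDual.tildeUnit (A := B)).symm) ≪≫
      (((DCoh.tildeD (CommRingCat.of B)).commShiftIso m).app _).symm
  exact ⟨f, hqf, m, ⟨(DCoh.tildeD (CommRingCat.of B)).preimageIso e₁⟩⟩

include e in
/-- An invertible base change to a basic open is an invertible restriction. -/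
theorem exists_iso_of_away (f : A) [DRing.HasLBaseChange (algebraMap A (Localization.Away f))] (m : ℤ)
    (ε : (DRing.LBaseChange (algebraMap A (Localization.Away f))).obj ω ≅
      (Dual.inD (Localization.Away f) (Localization.Away f))⟦m⟧) :
    haveI := isOpenImmersion_awayMor f
    Nonempty ((rd (awayMor f)).obj ((rd j).obj K) ≅
      (DCoh.inD _ (Coh.structureModule (Spec (CommRingCat.of (Localization.Away f)))))⟦m⟧) := by
  let B := Localization.Away f
  let u := awayMor f
  haveI : IsOpenImmersion u := isOpenImmersion_awayMor f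
  haveI : Module.Flat A B := IsLocalization.flat B (Submonoid.powers f)
  haveI := hasLpull u
  obtain ⟨a⟩ := QCohD.lpull_openImmersion u ((DCoh.tildeD (CommRingCat.of A)).obj ω)
  exact ⟨(rd u).mapIso e.symm ≪≫ a.symm ≪≫ ((QCohD.lpullTildeIso (algebraMap A B)).app ω).symm ≪≫
    (DCoh.tildeD (CommRingCat.of B)).mapIso ε ≪≫ ((DCoh.tildeD (CommRingCat.of B)).commShiftIso m).app _ ≪≫
    (shiftFunctor _ m).mapIso (H4RepDual.tildeUnit (A := B))⟩

end Away

variable {R A : Type u} [CommRing R] [CommRing A] [IsNoetherianRing R] [IsNoetherianRing A] [Algebra R A]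
  {n : ℕ} (ψ : MvPolynomial (Fin n) R →ₐ[R] A) (hψ : Function.Surjective ψ)
  [DRing.HasLBaseChange (algebraMap R (MvPolynomial (Fin n) R))]
  {Rψ : Dual.D (MvPolynomial (Fin n) R) ⥤ Dual.D A} (adj : DRing.restrictD ψ.toRingHom ⊣ Rψ)
  [hL : ∀ f : A, DRing.HasLBaseChange (algebraMap A (Localization.Away f))]

include hψ adj in
theorem gorenstein_iff_invertible [Module.Flat R A] :
    (∀ p : PrimeSpectrum R, LocCoh.IsGorensteinRing (A ⊗[R] p.asIdeal.ResidueField)) ↔
      (∀ q : PrimeSpectrum A, ∃ (f : A) (_ : f ∉ q.asIdeal) (m : ℤ),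
        Nonempty ((DRing.LBaseChange (algebraMap A (Localization.Away f))).obj
          (Dual2.shriekVia n Rψ (Dual.inD R R)) ≅ (Dual.inD (Localization.Away f) (Localization.Away f))⟦m⟧)) := by
  haveI : Algebra.FiniteType R A := Algebra.FiniteType.of_surjective ψ hψ
  rw [forall_isGorensteinRing_fibre_iff]
  obtain ⟨c, hpush, hc, a, adjc, O, ⟨eO⟩, ⟨e⟩⟩ := exists_shriek_model ψ hψ adj
  haveI := c.isOpenImmersion
  haveI := flat_specMor (R := R) (A := A)
  haveI : LocallyOfFiniteType (specMor R A) := (isSepFT_specMor (R := R) (A := A)).locallyOfFiniteType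
  haveI : LocallyOfFinitePresentation (specMor R A) := inferInstance
  haveI : ∀ y : (Spec (CommRingCat.of R) : Scheme.{u}), DCoh.HasLpull ((specMor R A).fiberι y) := fun y => hasLpull _
  have hf := H8Props.PseudoCoh.isPerfectMor_of_flat (specMor R A)
  constructor
  · intro h q
    obtain ⟨U, l, hl, m, hx, ⟨ε⟩⟩ := Rel.exists_unit_of_isGorensteinAt hf c adjc O eO (h q)
    exact exists_away_iso c.j e hL l m ε q hx
  · intro h q
    obtain ⟨f, hfq, m, ⟨ε⟩⟩ := h q
    obtain ⟨ε'⟩ := exists_iso_of_away c.j e f m ε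
    haveI := isOpenImmersion_awayMor f
    exact Rel.isGorensteinAt_of_unit hf c adjc O eO (awayMor f)
      ((PrimeSpectrum.localization_away_comap_range (Localization.Away f) f).ge hfq) m ε'

include hψ adj in
theorem invertible_of_isLCI (hl : LCI.IsLCI R A) (q : PrimeSpectrum A) :
    ∃ (f : A) (_ : f ∉ q.asIdeal) (m : ℤ), Nonempty ((DRing.LBaseChange (algebraMap A (Localization.Away f))).obj
      (Dual2.shriekVia n Rψ (Dual.inD R R)) ≅ (Dual.inD (Localization.Away f) (Localization.Away f))⟦m⟧) := by
  haveI : Algebra.FiniteType R A := Algebra.FiniteType.of_surjective ψ hψ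
  obtain ⟨c, hpush, hc, a, adjc, O, hO, ⟨e⟩⟩ := exists_shriek_model ψ hψ adj
  haveI := c.isOpenImmersion
  haveI := isSepFT_specMor (R := R) (A := A)
  haveI := isSepFT_id (Spec (CommRingCat.of R))
  have h := S3609.result (Spec (CommRingCat.of R)) (Spec (CommRingCat.of A)) (Spec (CommRingCat.of R))
    (specMor R A) (𝟙 _) (specMor R A) (Category.comp_id _) (isLCIMor_specMor hl) c hc a adjc O hO
  obtain ⟨U, m, hqU, ⟨ε⟩⟩ := h q
  exact exists_away_iso c.j e hL U.ι m ε q (by rw [Scheme.Opens.range_ι]; exact hqU)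

end Groth.Agent.LeadBrown.Aff
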