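import Groth.Agent.H4DR.Dualizing.FiniteMap
import Groth.Agent.H4DR.Dualizing.Criterion
import Groth.Agent.H16Derived.KInjRes.Countable
import Groth.Agent.H8Props.PseudoCoh.PerfectMap
import Mathlib.Algebra.Category.ModuleCat.EnoughInjectives

/-!
# Endomorphisms of `RHom_P(A, P)` for `A` of finite tor dimension
-/

set_option autoImplicit false
set_option linter.style.haveILetI false
set_option linter.unusedSectionVars false

universe u

open CategoryTheory CategoryTheory.Limits
open Groth.Agent.H4DR.Dualizing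
open Groth.Agent.H4DR.DComplete (coind)
open Groth.Agent.H4DR.Ext (Ex)
open Groth.Agent.H26Dual2 (TD coCx reCx reF)

attribute [local instance] HasDerivedCategory.standard

namespace Groth.Agent.LeadBrown.Aff

variable {P : Type u} [CommRing P] {E : DRing.Cx P}

theorem isRefl_coker (hE : DRing.TermwiseInjective E) {M N Q : Type u} [AddCommGroup M] [Module P M]
    [AddCommGroup N] [Module P N] [AddCommGroup Q] [Module P Q] {f : M →ₗ[P] N} {g : N →ₗ[P] Q}
    (hf : Function.Injective f) (hg : Function.Surjective g) (hfg : Function.Exact f g)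
    (hM : IsRefl E M) (hN : IsRefl E N) : IsRefl E Q where
  bij := by
    have hs : Function.Surjective (Tmap E g 0) := surjective_T hE hf hg hfg (zero_add 1) (hM.van 1 one_ne_zero)
    refine ⟨(injective_iff_map_eq_zero _).2 fun q hq => ?_, fun t => ?_⟩
    · obtain ⟨x, rfl⟩ := hg q
      obtain ⟨s, hs'⟩ := (exact_T hE hf hg hfg 0 (ev E N x)).1 (by rw [Tmap_ev, hq])
      obtain ⟨y, rfl⟩ := hM.bij.2 s
      rw [Tmap_ev] at hs'
      rw [← hN.bij.1 hs']
      exact hfg.apply_apply_eq_zero y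
    · obtain ⟨s, rfl⟩ := hs t
      obtain ⟨x, rfl⟩ := hN.bij.2 s
      exact ⟨g x, (Tmap_ev E g x).symm⟩
  van i hi := by
    haveI := hN.van i hi
    have hs : Function.Surjective (Tmap E g i) := by
      by_cases h : i + 1 = 0
      · refine surjective_T_of_injective hE hf hg hfg h ((injective_iff_map_eq_zero _).2 fun s hs => ?_)
        obtain ⟨y, rfl⟩ := hM.bij.2 s
        rw [Tmap_ev, ← map_zero (ev E N)] at hs
        rw [hf ((hN.bij.1 hs).trans (map_zero f).symm), map_zero]
      · exact surjective_T hE hf hg hfg rfl (hM.van _ h)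
    exact hs.subsingleton

theorem isRefl_retract {M N : Type u} [AddCommGroup M] [Module P M] [AddCommGroup N] [Module P N]
    (s : M →ₗ[P] N) (r : N →ₗ[P] M) (h : r ∘ₗ s = LinearMap.id) (hN : IsRefl E N) : IsRefl E M := by
  have hrs : ∀ i (t : T E M i), Tmap E r i (Tmap E s i t) = t := fun i t => by
    have h2 := LinearMap.congr_fun (Tmap_comp E s r i) t
    rw [h, Tmap_id] at h2
    exact h2.symm
  refine ⟨⟨fun x y hxy => ?_, fun t => ?_⟩, fun i hi => ?_⟩
  · have h2 : s x = s y := hN.bij.1 (by rw [← Tmap_ev, ← Tmap_ev, hxy])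
    exact (LinearMap.congr_fun h x).symm.trans ((congrArg r h2).trans (LinearMap.congr_fun h y))
  · obtain ⟨x, hx⟩ := hN.bij.2 (Tmap E s 0 t)
    exact ⟨r x, by rw [← Tmap_ev, hx, hrs]⟩
  · haveI := hN.van i hi
    exact Function.Surjective.subsingleton (f := Tmap E r i) fun t => ⟨_, hrs i t⟩

/-- Modules of finite tor dimension are reflexive once the ring is. -/
theorem isRefl_of_torDim [IsNoetherianRing P] (hE : DRing.TermwiseInjective E) (hP : IsRefl E P) :
    ∀ (d : ℕ) (M : Type u) [AddCommGroup M] [Module P M] [Module.Finite P M], DRing.HasTorDimLE P d M →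
      IsRefl E M
  | 0, M, _, _, _, h => by
    haveI := H8Props.PseudoCoh.hasTorDimLE_zero_iff.1 h
    haveI : Module.FinitePresentation P M := Module.finitePresentation_of_finite P M
    haveI : Module.Projective P M := Module.Flat.projective_of_finitePresentation
    obtain ⟨n, q, hq⟩ := Module.Finite.exists_fin' P M
    obtain ⟨s, hs⟩ := Module.projective_lifting_property q LinearMap.id hq
    exact isRefl_retract s q hs (IsRefl.fin hE hP n)
  | d + 1, M, _, _, _, h => by
    obtain ⟨n, q, hq, hfin⟩ := exists_free (A := P) M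
    exact isRefl_coker hE (Submodule.subtype_injective _) hq (LinearMap.exact_subtype_ker_map q)
      (isRefl_of_torDim hE hP d _ ((H8Props.PseudoCoh.hasTorDimLE_succ_iff q hq).1 h)) (IsRefl.fin hE hP n)

theorem bijective_smul_single (P : Type u) [CommRing P] :
    Function.Bijective (fun a : P => a • 𝟙 (Dual.inD P P)) := by
  let F := DerivedCategory.singleFunctor (ModuleCat.{u} P) 0
  have hF : ∀ a : P, F.map (a • 𝟙 (ModuleCat.of P P)) = a • 𝟙 (Dual.inD P P) := fun a =>
    (F.map_smul _ _).trans (congrArg (a • ·) (F.map_id _))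
  refine ⟨fun a b h => ?_, fun f => ?_⟩
  · have h2 : a • 𝟙 (ModuleCat.of P P) = b • 𝟙 (ModuleCat.of P P) :=
      F.map_injective ((hF a).trans (Eq.trans h (hF b).symm))
    have h3 := congrArg (fun t => t.hom (1 : P)) h2
    simpa using h3
  · obtain ⟨g, hg⟩ := F.map_surjective (show F.obj (ModuleCat.of P P) ⟶ F.obj (ModuleCat.of P P) from f)
    refine ⟨g.hom (1 : P), (hF _).symm.trans ((congrArg F.map ?_).trans hg)⟩
    refine ModuleCat.hom_ext (LinearMap.ext_ring ?_)
    simp

theorem exists_injective_self (P : Type u) [CommRing P] : ∃ (E : DRing.Cx P) (_ : E.IsKInjective),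
    DRing.TermwiseInjective E ∧ Nonempty (DRing.toD E ≅ Dual.inD P P) := by
  haveI : DerivedCategory.IsGE (Dual.inD P P) 0 :=
    (DerivedCategory.isGE_iff _ 0).2 fun i hi => ModuleCat.isZero_of_iff_subsingleton.2
      (H4DR.PCoh.subsingleton_HD_inD (ModuleCat.of P P) i hi.ne)
  obtain ⟨L, hL, ⟨e⟩⟩ := DerivedCategory.exists_iso_Q_obj_of_isGE (Dual.inD P P) 0
  obtain ⟨J, i, hi, hJ, hg⟩ := CochainComplex.Plus.modelCategoryQuillen.exists_quasiIso_injective L 0
  haveI := hi
  haveI := hJ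
  exact ⟨J, CochainComplex.isKInjective_of_injective J 0,
    fun k => Module.injective_module_of_injective_object P (J.X k) (inj := hJ k),
    ⟨(asIso (DerivedCategory.Q.map i)).symm ≪≫ e.symm⟩⟩

/-- Endomorphisms transported along isomorphisms. -/
theorem endProps_of_iso {A : Type u} [CommRing A] {X Y : Dual.D A} (e : X ≅ Y)
    (h : Function.Bijective (fun a : A => a • 𝟙 X) ∧ ∀ i : ℤ, i ≠ 0 → Subsingleton (X ⟶ X⟦i⟧)) :
    Function.Bijective (fun a : A => a • 𝟙 Y) ∧ ∀ i : ℤ, i ≠ 0 → Subsingleton (Y ⟶ Y⟦i⟧) := by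
  refine ⟨?_, fun i hi => ?_⟩
  · have h2 : (fun a : A => a • 𝟙 Y) = Linear.homCongr A e e ∘ fun a : A => a • 𝟙 X := funext fun a => by
      show a • 𝟙 Y = Linear.homCongr A e e (a • 𝟙 X)
      rw [map_smul, Linear.homCongr_apply]
      simp
    rw [h2]
    exact (Linear.homCongr A e e).bijective.comp h.1
  · haveI := h.2 i hi
    exact (Linear.homCongr A e ((shiftFunctor (Dual.D A) i).mapIso e)).symm.injective.subsingleton

/-- Endomorphisms of shifts. -/
theorem endProps_shift {A : Type u} [CommRing A] {X : Dual.D A} (n : ℤ)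
    (h : Function.Bijective (fun a : A => a • 𝟙 X) ∧ ∀ i : ℤ, i ≠ 0 → Subsingleton (X ⟶ X⟦i⟧)) :
    Function.Bijective (fun a : A => a • 𝟙 (X⟦n⟧)) ∧ ∀ i : ℤ, i ≠ 0 → Subsingleton (X⟦n⟧ ⟶ X⟦n⟧⟦i⟧) := by
  refine ⟨?_, fun i hi => ?_⟩
  · have h2 : (fun a : A => a • 𝟙 (X⟦n⟧)) = H4DR.Ext.shiftLin X X n ∘ fun a : A => a • 𝟙 X := funext fun a => by
      show a • 𝟙 (X⟦n⟧) = (shiftFunctor (Dual.D A) n).map (a • 𝟙 X)
      rw [Functor.map_smul, CategoryTheory.Functor.map_id]
    rw [h2]
    exact (H4DR.Ext.shiftLin X X n).bijective.comp h.1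
  · haveI := h.2 i hi
    exact ((H4DR.Ext.shiftLin X (X⟦i⟧) n).trans (H4DR.Ext.postIso _ (shiftComm X i n))).symm.injective.subsingleton

variable {A : Type u} [CommRing A] {ψ : P →+* A} {Rψ : Dual.D P ⥤ Dual.D A} (adj : DRing.restrictD ψ ⊣ Rψ)

include adj in
/-- `RHom_P(A, P)` has only the obvious self-maps. -/
theorem endProps_rightAdjoint [IsNoetherianRing P] (hψ : ψ.Finite)
    (hA : letI := ψ.toAlgebra; ∃ d, DRing.HasTorDimLE P d A) :
    Function.Bijective (fun a : A => a • 𝟙 (Rψ.obj (Dual.inD P P))) ∧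
      ∀ i : ℤ, i ≠ 0 → Subsingleton (Rψ.obj (Dual.inD P P) ⟶ (Rψ.obj (Dual.inD P P))⟦i⟧) := by
  letI := ψ.toAlgebra
  haveI : Module.Finite P A := hψ
  obtain ⟨d, hd⟩ := hA
  obtain ⟨E, _, hE, ⟨e⟩⟩ := exists_injective_self P
  have hP : IsRefl E P := (isRefl_self_iff e).2 ⟨bijective_smul_single P, fun i hi =>
    haveI : Subsingleton (Dual.HD P (Dual.inD P P) i) := H4DR.PCoh.subsingleton_HD_inD (ModuleCat.of P P) i hi
    (H4DR.Ext.evalEquiv (Dual.inD P P) i).injective.subsingleton⟩
  have hr := isRefl_of_torDim hE hP d A hd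
  obtain ⟨eJ⟩ := exists_iso_coCx adj e
  let J := (coCx ψ).obj E
  let r : DRing.toD (coind (ModuleCat.of P A) E) ≅ (TD ψ).obj (DRing.toD J) :=
    DerivedCategory.Q.mapIso (resCoCx E).symm ≪≫ ((reF ψ).mapDerivedCategoryFactors.app J).symm
  have h0 : ∀ c : A, r.hom ≫ ((TD ψ).map (c • 𝟙 (DRing.toD J)) ≫ epsCo ψ E) =
      DerivedCategory.Q.map (evC E (ModuleCat.of P A) c) := fun c => by
    have h1 := (reF ψ).mapDerivedCategoryFactors.inv.naturality (c • 𝟙 J)
    simp only [Functor.comp_map, Functor.map_smul DerivedCategory.Q, CategoryTheory.Functor.map_id DerivedCategory.Q] at h1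
    simp only [r, epsCo, Iso.trans_hom, Iso.symm_hom, Category.assoc]
    simp only [Iso.app_hom, Iso.app_inv]
    erw [← reassoc_of% h1]
    erw [Iso.inv_hom_id_app_assoc]
    simp only [Functor.mapIso_hom, Iso.symm_hom]
    erw [← DerivedCategory.Q.map_comp, ← DerivedCategory.Q.map_comp]
    refine congrArg DerivedCategory.Q.map (HomologicalComplex.hom_ext _ _ fun i => ModuleCat.hom_ext
      (LinearMap.ext fun (g : A →ₗ[P] E.X i) => ?_))
    show g (1 * c) = g c
    rw [one_mul]
  refine endProps_of_iso eJ ⟨?_, fun i hi => ?_⟩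
  · let Φ : (DRing.toD J ⟶ DRing.toD J) ≃ T E A 0 :=
      (Equiv.ofBijective _ (bijective_epsCo ψ E (DRing.toD J))).trans ((Iso.homFromEquiv r.symm).trans
        (Iso.homToEquiv ((shiftFunctorZero (Dual.D P) ℤ).app (DRing.toD E)).symm))
    have hΦ : Φ ∘ (fun c : A => c • 𝟙 (DRing.toD J)) = ev E A := funext fun c => by
      show (r.symm.inv ≫ ((TD ψ).map (c • 𝟙 (DRing.toD J)) ≫ epsCo ψ E)) ≫ _ = _
      rw [Iso.symm_inv, h0]
      rfl
    exact (Function.Bijective.of_comp_iff' Φ.bijective _).1 (hΦ ▸ hr.bij)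
  · haveI := hr.van i hi
    exact ((Iso.homToEquiv ((shiftFunctor (Dual.D A) i).mapIso eJ)).trans
      ((exAdj adj _ (Dual.inD P P) i).trans ((Iso.homFromEquiv r.symm).trans
        (Iso.homToEquiv ((shiftFunctor (Dual.D P) i).mapIso e.symm))))).subsingleton

end Groth.Agent.LeadBrown.Aff
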